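import Cfsg.Agent.Lib.SzV.B

/-!
# A standard subgroup of type `L₃(4)`: its involutions are not fused into the centralizer
-/

set_option autoImplicit false
set_option linter.unusedSectionVars false

namespace Cfsg.Lib.SzV

open Subgroup Cfsg.Lib.ONU Cfsg.Lib.RI Cfsg.Lib.SzS Cfsg.Lib.BG
open scoped Cfsg.Lib.Transfer

variable {G : Type*} [Group G] [Finite G] {p q : G → S42} {L M A B Q : Subgroup G} {u : F4 → F4 → F4 → G}
  {d g k l n r s₁ s₂ t x y : G} {a b c : F4}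

local notation "𝐊" => centralizer (L : Set G)
local notation "𝐌" => normalizer (L : Set G)

theorem onto (h : ¬ (a = 0 ∧ b = 0)) (c : F4) : ∃ x y, x * b + a * y = c := by revert a b c; decide +kernel

namespace Fr
variable (F : Fr p L u d s₁ s₂)
include F

theorem cP (m : A ≤ 𝐊) : ∀ a ∈ A, ∀ b ∈ F.P, Commute a b := by rintro x i _ ⟨a, b, c, rfl⟩; exact F.cu (m i) ..
theorem E1P : F.E1 ≤ F.P := by rintro _ ⟨a, c, rfl⟩; exact F.mP ..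
theorem E2P : F.E2 ≤ F.P := by rintro _ ⟨a, c, rfl⟩; exact F.mP ..
theorem ZP : F.Z ≤ F.P := by rintro _ ⟨c, rfl⟩; exact F.mP ..
theorem cjk (m : k ∈ 𝐊) (x y z : F4) : cj (u x y z) (k * u a b c) = k * u a b c * u 0 0 (x * b + a * y) := by
  rw [cj_mul, cj_of_comm (F.cu m ..).symm, F.cju, mul_assoc, F.uz]

theorem comM (uN : ∀ a b c, u a b c ∈ 𝐍(M)) (m : k ∈ 𝐊) (e : k * u a b c ∈ 𝐂(M)) (n : ¬ (a = 0 ∧ b = 0)) (c : F4) :
    u 0 0 c ∈ 𝐂(M) := by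
  obtain ⟨x, y, rfl⟩ := onto n c
  exact (mul_mem_cancel_left e).1 (F.cjk m x y 0 ▸ (cjK (uN _ _ _)).2 e)

section
variable (h : H0 q M) (T : Tg M) (ti : ∀ x ∈ 𝐂(L), x ∈ 𝐂(M) → Two x → x = 1) (zM : u 0 0 1 ∈ 𝐂(M))
include h T ti zM

theorem a1 (nz : u 0 0 ϖ ∉ 𝐂(M)) (m : r ∈ 𝐊) (r2 : r * r = 1) : ∃ e, r * u 0 0 e ∈ 𝐂(M) := by_contra fun n => by
  have uN : ∀ a b c, u a b c ∈ 𝐍(M) := fun a b c => T.cen zM (F.s1 ..) (F.z1 one_ne_zero) (F.toHz.zc ..)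
  have rN : r ∈ 𝐍(M) := T.cen zM (F.s1 ..) (F.z1 one_ne_zero) (F.cu m ..)
  have rK := zpowers_le.2 m
  have p0 : ∀ {k a b c}, k ∈ 𝐊 → k * u a b c ∈ 𝐂(M) → a = 0 ∧ b = 0 := fun i j => by_contra fun e => nz (F.comM uN i j e ϖ)
  have QN : pr (zpowers r) F.P (F.cP rK) ≤ 𝐍(M) := pr_le (zpowers_le.2 rN) (by rintro _ ⟨a, b, c, rfl⟩; exact uN _ _ _)
  obtain ⟨q, h, hq⟩ := h.toS' QN (pr2 (pg_zp (two_of_sq r2)) F.P2)
  have key : ∀ (E : Subgroup G) (i : E ≤ F.P) (v : F4 → F4 → G), (∀ x ∈ E, x * x = 1) → (∀ a c, v a c ∈ E) →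
      (∀ a c a' c', ∃ x y, v a c * (v a' c')⁻¹ = u x y (c + c') ∧ (x = 0 ∧ y = 0 → a = a')) →
      ∃ (A : Subgroup G) (j : A ≤ pr (zpowers r) F.P (F.cP rK)), E ≤ A ∧ (h.im (j.trans QN) = hb.E1 ∨ h.im (j.trans QN) = hb.E2) ∧
        ∀ x ∈ A, ∀ y ∈ E, Commute x y := fun E i v sq vm vv => by
    have j : pr (zpowers r) E (fun a m b n => F.cP rK a m b (i n)) ≤ pr (zpowers r) F.P (F.cP rK) :=
      pr_le (fun _ => pr_l) fun _ e => pr_r (i e)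
    refine ⟨_, j, fun _ => pr_r, h.im16 (ι := F4 × Bool × Bool) rfl _ (fun x e => hq x (j e)) ?_
      (fun t => (bif t.2.2 then r else 1) * v t.1 (bif t.2.1 then ϖ else 0))
      (fun t => ⟨_, by cases t.2.2 <;> simp [one_mem], _, vm .., rfl⟩) ?_, ?_⟩
    · rintro _ ⟨x, a, y, b, rfl⟩
      rw [mul_sq_of_comm ((zp2 r2 a).elim (by rintro rfl; simp) (by rintro rfl; exact r2)) (sq y b) (F.cP rK x a y (i b))]
      exact one_mem _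
    · rintro ⟨a, c, e⟩ ⟨a', c', e'⟩ f
      obtain ⟨x, y, o, o'⟩ := vv a (bif c then ϖ else 0) a' (bif c' then ϖ else 0)
      have w : ∀ e : Bool, (bif e then r else 1) ∈ 𝐊 := fun e => by cases e; exacts [one_mem _, m]
      rw [mul_inv_rev, mul_assoc, ← mul_assoc (v _ _), o, ← (F.cu (inv_mem (w _)) ..).eq, ← mul_assoc] at f
      obtain ⟨rfl, rfl⟩ := p0 (mul_mem (w _) (inv_mem (w _))) f
      obtain rfl := o' ⟨rfl, rfl⟩
      obtain rfl : e = e' := by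
        cases e <;> cases e' <;> first | rfl | exact absurd ⟨_, by simpa [inv_eq_of_mul_eq_one_right r2] using f⟩ n
      obtain rfl : c = c' := by cases c <;> cases c' <;> first | rfl | exact absurd (by simpa using f) nz
      rfl
    · rintro _ ⟨x, a, y, b, rfl⟩ z c
      exact (F.cP rK x a z (i c)).mul_left (comm_of_mul_sq (sq y b) (sq z c) (sq _ (mul_mem b c)))
  obtain ⟨A, i, j, k, l⟩ := key F.E1 F.E1P (u · 0 ·) (by rintro _ ⟨a, c, rfl⟩; exact F.s1 ..) F.mE1 fun a c a' c' =>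
    ⟨_, _, by rw [F.i1, F.m1], fun e => CharTwo.add_eq_zero.1 e.1⟩
  obtain ⟨A', i', j', k', l'⟩ := key F.E2 F.E2P (u 0 · ·) (by rintro _ ⟨a, c, rfl⟩; exact F.s2 ..) F.mE2 fun a c a' c' =>
    ⟨_, _, by rw [F.i2, F.m2], fun e => CharTwo.add_eq_zero.1 e.2⟩
  have ne : h.im (i.trans QN) ≠ h.im (i'.trans QN) := fun e => by
    obtain ⟨x, a, b⟩ : q (u 0 1 0) ∈ h.im (i.trans QN) := e ▸ ⟨_, j' (F.mE2 ..), rfl⟩
    have := cj_of_comm (b ▸ h.cm (QN (i a)) (uN _ _ _) (l x a _ (F.mE1 ϖ 0))).symm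
    rw [← h.pcj (uN _ _ _) (uN _ _ _), h.eqK (cj_mem (uN _ _ _) (uN _ _ _)) (uN _ _ _), F.cju, ← F.zu, mul_inv_cancel_right] at this
    exact nz (by simpa using this)
  have fin : ∀ X Y, (i : X ≤ pr (zpowers r) F.P (F.cP rK)) → (j : Y ≤ pr (zpowers r) F.P (F.cP rK)) →
      h.im (i.trans QN) = hb.E1 → h.im (j.trans QN) = hb.E2 → False := fun X Y i j e f => by
    obtain ⟨x, a, ex⟩ : ub 1 0 0 ∈ h.im (i.trans QN) := e ▸ hb.mE1 ..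
    have o : ∀ b, ub 0 0 b = 1 ∨ ub 0 0 b = q (u 0 0 ϖ) := fun b => by
      obtain ⟨y, c, ey⟩ : ub 0 b 0 ∈ h.im (j.trans QN) := f ▸ hb.mE2 ..
      obtain ⟨e, o⟩ : ∃ e, cj x y = y * u 0 0 e := by
        obtain ⟨x, a', _, ⟨_, _, _, rfl⟩, rfl⟩ := i a
        obtain ⟨y, c', _, ⟨_, _, _, rfl⟩, rfl⟩ := j c
        exact ⟨_, by rw [← cj_cj, F.cjk (rK c'), cj_of_comm (((zp_comm a' (zp_comm c' (.refl r)).symm).mul_right
          (F.cu (rK a') ..)).mul_right (F.cu (rK a') ..))]⟩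
      have := congrArg q o
      rw [h.pcj (QN (i a)) (QN (j c)), h.mul (QN (j c)) (uN _ _ _), ← ex, ← ey, hb.cju, ← hb.uz, mul_right_inj, one_mul, zero_mul,
        add_zero] at this
      rw [this]
      rcases cases4 e with rfl | rfl | rfl | rfl
      exacts [.inl (by rw [F.u0, h.hom.one]), .inl (h.pk zM), .inr rfl,
        .inr (by rw [show ϖ ^ 2 = 1 + ϖ by decide, ← F.zz, h.pkl zM (uN _ _ _)])]
    exact absurd (hb.inj (((o 1).resolve_left (hb.z1 one_ne_zero)).trans ((o ϖ).resolve_left (hb.z1 ϖ0)).symm)).2.2 (by decide)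
  rcases k with k | k <;> rcases k' with k' | k'
  exacts [ne (k.trans k'.symm), fin _ _ i i' k k', fin _ _ i' i k' k, ne (k.trans k'.symm)]

theorem a2 (hg : ∀ x, x ∈ 𝐂(M) ↔ cj g x ∈ 𝐊) (zM' : u 0 0 ϖ ∈ 𝐂(M)) : L ≤ 𝐂(M) := by
  have uN : ∀ a b c, u a b c ∈ 𝐍(M) := fun a b c => T.cen zM (F.s1 ..) (F.z1 one_ne_zero) (F.toHz.zc ..)
  have kN : 𝐊 ≤ 𝐍(M) := fun k m => T.cen zM (F.s1 ..) (F.z1 one_ne_zero) (F.cu m ..)
  have zz : ∀ c, u 0 0 c ∈ 𝐂(M) := fun c => by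
    rcases cases4 c with rfl | rfl | rfl | rfl
    exacts [F.u0 ▸ one_mem _, zM, zM', show ϖ ^ 2 = 1 + ϖ by decide ▸ F.zz 1 ϖ ▸ mul_mem zM zM']
  have dN : d ∈ 𝐍(M) := T.tight _ zM _ (F.s1 ..) (F.z1 one_ne_zero) (F.dz 1 ▸ zz _)
  have ch : ∀ {a b c} c', u a b c ∈ 𝐂(M) → u a b c' ∈ 𝐂(M) := fun {a b c} c' e => by
    simpa [F.uz, ← add_assoc, aa] using mul_mem e (zz (c + c'))
  have sc : ∀ {a b c} x, x ≠ 0 → u (x * a) (x * b) c ∈ 𝐂(M) → u a b c ∈ 𝐂(M) := fun {a b c} x n e => by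
    have i := F.dc .. ▸ (cjK dN).2 e
    have j := F.dc .. ▸ (cjK dN).2 i
    rcases cases4 x with rfl | rfl | rfl | rfl
    · exact absurd rfl n
    · simpa using e
    · exact ch c (by simpa only [(by decide : ∀ a : F4, ϖ ^ 2 * (ϖ * a) = a)] using i)
    · exact ch c (by simpa only [(by decide : ∀ a : F4, ϖ ^ 2 * (ϖ ^ 2 * (ϖ ^ 2 * a)) = a)] using j)
  have one : ∀ {k a b c}, k ∈ 𝐊 → Two k → k * u a b c ∈ 𝐂(M) → k = 1 ∧ u a b c ∈ 𝐂(M) := fun {k a b c} m t e => by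
    have i := mul_mem (inv_mem e) ((cjK dN).2 e)
    rw [cj_mul, cj_of_comm (cK m F.dm).symm, mul_inv_rev, mul_assoc, inv_mul_cancel_left, F.dc, F.toHz.inv, F.toHz.mul] at i
    have j : u a b c ∈ 𝐂(M) := sc ϖ ϖ0 (ch c (by simpa only [(by decide : ∀ a : F4, a + ϖ ^ 2 * a = ϖ * a)] using i))
    exact ⟨ti k m ((mul_mem_cancel_right j).1 e) t, j⟩
  have gz := fun c => (hg _).1 (zz c)
  have PN : F.P ≤ 𝐍(M) := by rintro _ ⟨a, b, c, rfl⟩; exact uN _ _ _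
  have P0 : ∀ a b c, u a b c ∈ 𝐂(M) := fun a b c => by_contra fun n => by
    have ZK : g ⋆ F.Z ≤ 𝐊 := Transfer.conj_le_iff.2 (by rintro _ ⟨c, rfl⟩; exact gz c)
    have Z0 : ∀ {x y z}, u x y z ∈ 𝐂(M) → x = 0 ∧ y = 0 := fun {x y z} e => by
      obtain ⟨_, ⟨_, ⟨_, ⟨c', rfl⟩, rfl⟩, _, ⟨a', b', c'', rfl⟩, rfl⟩, o⟩ := h.e16c (ι := F4 × F4) rfl
        (pr_le (c := F.cP ZK) (ZK.trans kN) PN) (pr2 (Transfer.isPGroup_conj (F.P2.to_le F.ZP) g) F.P2) (by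
          rintro _ ⟨_, ⟨_, ⟨c', rfl⟩, rfl⟩, _, ⟨a', b', c'', rfl⟩, rfl⟩
          show cj g _ * _ * (cj g _ * _) ∈ _
          rw [(F.cu (gz c') ..).symm.mul_mul_mul_comm, F.sq]
          exact mul_mem ((cj_mul_self (F.s1 ..) g).symm ▸ one_mem _) (zz _))
        (fun t => cj g (u 0 0 t.1) * u (t.2 * a) (t.2 * b) 0) (fun t => ⟨_, ⟨_, F.mZ _, rfl⟩, _, F.mP .., rfl⟩) (by
          rintro ⟨i, j⟩ ⟨i', j'⟩ f
          rw [mul_inv_rev, mul_assoc, ← mul_assoc (u _ _ _), F.toHz.inv, F.toHz.mul, ← (F.cu (inv_mem (gz _)) ..).eq, ← mul_assoc,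
            ← cj_inv, F.i1, ← cj_mul, F.zz, ← add_mul, ← add_mul] at f
          obtain ⟨f1, f2⟩ := one (gz _) ((F.two ..).conj g) f
          exact Prod.ext (CharTwo.add_eq_zero.1 (F.eq1 (cj_eq_one.1 f1)).2.2)
            (CharTwo.add_eq_zero.1 (by_contra fun e => n (ch c (sc _ e f2)))))
        (kN ((hg _).1 e)) (by
          rintro _ ⟨_, ⟨_, ⟨c', rfl⟩, rfl⟩, _, ⟨a', b', c'', rfl⟩, rfl⟩
          exact (commute_cj.2 (F.toHz.zc ..)).mul_right (F.cu ((hg _).1 e) ..))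
      replace o : cj g (u x y z) * (cj g (u 0 0 c') * u a' b' c'')⁻¹ ∈ 𝐂(M) := o
      rw [(F.cu (gz _) ..).eq, mul_inv_rev, ← mul_assoc, ← cj_inv, F.i1, ← cj_mul, F.uz, F.toHz.inv] at o
      have := F.eq1 (cj_eq_one.1 (one ((hg _).1 (ch _ e)) ((F.two ..).conj g) o).1)
      exact ⟨this.1, this.2.1⟩
    obtain ⟨_, ⟨a', b', c', rfl⟩, o⟩ := h.e16c (ι := F4 × F4) rfl PN F.P2 (by rintro _ ⟨a, b, c, rfl⟩; exact F.sq .. ▸ zz _)
      (fun t => u t.1 t.2 0) (fun _ => F.mP ..) (fun i j f => by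
        rw [F.toHz.inv, F.toHz.mul] at f
        exact Prod.ext (CharTwo.add_eq_zero.1 (Z0 f).1) (CharTwo.add_eq_zero.1 (Z0 f).2))
      (kN (gz 1)) (by rintro _ ⟨a, b, c, rfl⟩; exact F.cu (gz 1) ..)
    rw [F.toHz.inv] at o
    exact F.z1 one_ne_zero (cj_eq_one.1 (one (gz 1) ((F.two ..).conj g) o).1)
  have s : ∀ {u d s₁ s₂ p}, Fr p L u d s₁ s₂ → (∀ a b c, u a b c ∈ 𝐂(M)) → s₁ ∈ 𝐂(M) := fun F e => by
    rw [F.rel₁]
    exact cj_mem (e _ _ _) ((cjK (T.tight _ (e 0 0 1) _ (F.s1 ..) (F.z1 one_ne_zero) (F.sc₁ 0 1 ▸ e _ _ _))).2 (e _ _ _))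
  exact F.gen P0 (s F P0) (s F.swap fun _ _ _ => P0 _ _ _)

end

theorem noZ (T : Tg L) (c : F4) : ¬ TT L (u 0 0 c) := fun t => by
  obtain ⟨l, -, e⟩ := F.clsL (F.um ..) t.1 t.2.1
  obtain ⟨-, -, g, hg⟩ := e ▸ t.cj l
  have n : g ∉ 𝐌 := fun m => one_ne_zero (F.uK ((cjK m).1 hg)).2.2
  have ti : ∀ x ∈ 𝐊, x ∈ 𝐂(g⁻¹ ⋆ L) → Two x → x = 1 := fun x => T.ti n
  by_cases z : u 0 0 ϖ ∈ 𝐂(g⁻¹ ⋆ L)
  · exact T.nc g fun l m => cM.1 (F.a2 (F.cjg g) (T.cjg g) ti (cM.2 hg) (fun _ => cM) z m)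
  have o : ∀ r ∈ 𝐊, r * r = 1 → r ≠ 1 → r * u 0 0 ϖ ∈ 𝐂(g⁻¹ ⋆ L) := fun r m r2 r1 => by
    obtain ⟨e, f⟩ := F.a1 (F.cjg g) (T.cjg g) ti (cM.2 hg) z m r2
    rcases cases4 e with rfl | rfl | rfl | rfl
    · exact absurd (ti r m (by simpa [F.u0] using f) (two_of_sq r2)) r1
    · exact absurd (ti r m ((mul_mem_cancel_right (cM.2 hg)).1 f) (two_of_sq r2)) r1
    · exact f
    · rw [show ϖ ^ 2 = ϖ + 1 by decide, ← F.zz, ← mul_assoc] at f; exact (mul_mem_cancel_right (cM.2 hg)).1 f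
  have z1 : cj g (u 0 0 1) ≠ 1 := mt cj_eq_one.1 (F.z1 one_ne_zero)
  have z2 := cj_mul_self (F.s1 0 1) g
  have a := o _ hg z2 z1
  have c : Commute (cj g (u 0 0 1) * u 0 0 ϖ) (u 0 0 1) := (F.cu hg ..).mul_left (F.toHz.zc ..)
  have a2 := cj_mul_self (mul_sq_of_comm z2 (F.s1 0 ϖ) (F.cu hg ..)) g
  have b := mul_mem (o _ (cM.1 a) a2 fun e => (F.injK hg (one_mem _) ((cj_eq_one.1 e).trans (F.u0.symm.trans (one_mul _).symm))).1 ▸ z1 <| rfl)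
    (inv_mem a)
  rw [mul_inv_rev, mul_assoc, mul_inv_cancel_left, ← cj_inv, ← cj_mul] at b
  have := cj_eq_one.1 (ti _ (by rw [cj_mul, cj_inv]; exact mul_mem (cM.1 a) (inv_mem hg)) b
    ((two_mul' (two_of_sq (mul_sq_of_comm z2 (F.s1 0 ϖ) (F.cu hg ..))) (F.two ..).inv c.inv_right).conj g))
  rw [F.i1, mul_assoc, F.zz] at this
  exact z1 (F.injK hg (one_mem _) (this.trans (F.u0.symm.trans (one_mul _).symm))).1

end Fr

end Cfsg.Lib.SzV
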