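import Cfsg.Agent.Lib.SzV.MC

/-!
# Facts about `Aut L₃(4)`
-/

set_option autoImplicit false
set_option maxRecDepth 100000

namespace Cfsg.Lib.SzV

open Subgroup Cfsg.Lib.Calc Cfsg.Lib.T2 Cfsg.Lib.ONU

/-- the letters -/
noncomputable def γ : ℕ → S42 := mC.gam
/-- the subgroups -/
noncomputable def KK (k : ℕ) : Subgroup S42 := mC.K k

theorem HH {φ : Fm} (e : mC.eval φ = true) : φ.holds KK γ := mC_ok.holds e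

theorem f_inv : ∀ x ∈ KK 2, x * x = 1 → x = 1 ∨ (∃ v ∈ KK 1, v * x = γ 5 * v ∧ True) :=
  HH (φ := .all 2 40 [] (.imp (.one (.mul (.l 40) (.l 40))) (.or (.one (.l 40)) (.ex 1 41 [(.l 40, .l 5)] (.tt))))) (by decide +kernel)

theorem f_out : ∀ x ∈ KK 3, x * x = 1 → x ∈ KK 2 ∨ (∃ v ∈ KK 0, v * x = γ 11 * v ∧ True) ∨ (∃ v ∈ KK 0, v * x = γ 12 * v ∧ True) ∨ (∃ v ∈ KK 0, v * x = γ 11 * γ 12 * v ∧ True) :=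
  HH (φ := .all 3 40 [] (.imp (.one (.mul (.l 40) (.l 40))) (.or (.mem 2 (.l 40)) (.or (.ex 0 41 [(.l 40, .l 11)] (.tt)) (.or (.ex 0 41 [(.l 40, .l 12)] (.tt)) (.ex 0 41 [(.l 40, .mul (.l 11) (.l 12))] (.tt))))))) (by decide +kernel)

theorem f_cE1 : ∀ x ∈ KK 0, x * γ 1 = γ 1 * x → x * γ 2 = γ 2 * x → x * γ 5 = γ 5 * x → x * γ 6 = γ 6 * x → x ∈ KK 5 :=
  HH (φ := .all 0 40 [(.l 1, .l 1), (.l 2, .l 2), (.l 5, .l 5), (.l 6, .l 6)] (.mem 5 (.l 40))) (by decide +kernel)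

theorem f_cE2 : ∀ x ∈ KK 0, x * γ 3 = γ 3 * x → x * γ 4 = γ 4 * x → x * γ 5 = γ 5 * x → x * γ 6 = γ 6 * x → x ∈ KK 6 :=
  HH (φ := .all 0 40 [(.l 3, .l 3), (.l 4, .l 4), (.l 5, .l 5), (.l 6, .l 6)] (.mem 6 (.l 40))) (by decide +kernel)

theorem f_cF : ∀ x ∈ KK 0, x * γ 1 = γ 1 * x → x * γ 3 = γ 3 * x → x * γ 5 = γ 5 * x → x * γ 6 = γ 6 * x → x ∈ KK 7 :=
  HH (φ := .all 0 40 [(.l 1, .l 1), (.l 3, .l 3), (.l 5, .l 5), (.l 6, .l 6)] (.mem 7 (.l 40))) (by decide +kernel)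

theorem f_cz : ∀ x ∈ KK 1, x * γ 5 = γ 5 * x → x ∈ KK 2 :=
  HH (φ := .all 1 40 [(.l 5, .l 5)] (.mem 2 (.l 40))) (by decide +kernel)

theorem f_cZ : ∀ x ∈ KK 0, x * γ 5 = γ 5 * x → x * γ 6 = γ 6 * x → x ∈ KK 9 :=
  HH (φ := .all 0 40 [(.l 5, .l 5), (.l 6, .l 6)] (.mem 9 (.l 40))) (by decide +kernel)

theorem f_cPZ : ∀ x ∈ KK 9, x * γ 1 * x⁻¹ * (γ 1)⁻¹ ∈ KK 7 → x * γ 2 * x⁻¹ * (γ 2)⁻¹ ∈ KK 7 → x * γ 3 * x⁻¹ * (γ 3)⁻¹ ∈ KK 7 → x * γ 4 * x⁻¹ * (γ 4)⁻¹ ∈ KK 7 → x ∈ KK 2 :=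
  HH (φ := .all 9 40 [] (.imp (.mem 7 (.mul (.mul (.mul (.l 40) (.l 1)) (.inv (.l 40))) (.inv (.l 1)))) (.imp (.mem 7 (.mul (.mul (.mul (.l 40) (.l 2)) (.inv (.l 40))) (.inv (.l 2)))) (.imp (.mem 7 (.mul (.mul (.mul (.l 40) (.l 3)) (.inv (.l 40))) (.inv (.l 3)))) (.imp (.mem 7 (.mul (.mul (.mul (.l 40) (.l 4)) (.inv (.l 40))) (.inv (.l 4)))) (.mem 2 (.l 40))))))) (by decide +kernel)

theorem f_NP : ∀ v ∈ KK 7, v = 1 ∨ (∀ x ∈ KK 0, x * γ 5 = v * x → x ∈ KK 4) :=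
  HH (φ := .all 7 40 [] (.or (.one (.l 40)) (.all 0 41 [(.l 5, .l 40)] (.mem 4 (.l 41))))) (by decide +kernel)

theorem f_exp : ∀ x ∈ KK 4, x ^ 24 = 1 :=
  HH (φ := .all 4 40 [] (.one (.pow (.l 40) 24))) (by decide +kernel)

theorem f_sq : ∀ x ∈ KK 4, x ^ 8 = 1 → ∃ v ∈ KK 2, x * v * (x * v) = 1 :=
  HH (φ := .all 4 40 [] (.imp (.one (.pow (.l 40) 8)) (.ex 2 41 [] (.one (.mul (.mul (.l 40) (.l 41)) (.mul (.l 40) (.l 41))))))) (by decide +kernel)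

theorem f_sw : ∀ x ∈ KK 9, x ^ 8 = 1 → x ∈ KK 2 ∨ x * γ 1 * x⁻¹ ∉ KK 5 :=
  HH (φ := .all 9 40 [] (.imp (.one (.pow (.l 40) 8)) (.or (.mem 2 (.l 40)) (.not (.mem 5 (.mul (.mul (.l 40) (.l 1)) (.inv (.l 40)))))))) (by decide +kernel)

theorem f_del : ∀ x ∈ KK 9, x ^ 3 = 1 → x * γ 1 * x⁻¹ ∈ KK 5 ∧ x * γ 2 * x⁻¹ ∈ KK 5 ∧ (x = 1 ∨ x * γ 1 * x⁻¹ * (γ 1)⁻¹ ∉ KK 7) :=
  HH (φ := .all 9 40 [] (.imp (.one (.pow (.l 40) 3)) (.and (.mem 5 (.mul (.mul (.l 40) (.l 1)) (.inv (.l 40)))) (.and (.mem 5 (.mul (.mul (.l 40) (.l 2)) (.inv (.l 40)))) (.or (.one (.l 40)) (.not (.mem 7 (.mul (.mul (.mul (.l 40) (.l 1)) (.inv (.l 40))) (.inv (.l 1)))))))))) (by decide +kernel)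

theorem f_c12 : ∀ x ∈ KK 8, ∀ v ∈ KK 8, (x * v * x⁻¹ * v⁻¹) ^ 3 = 1 :=
  HH (φ := .all 8 40 [] (.all 8 41 [] (.one (.pow (.mul (.mul (.mul (.l 40) (.l 41)) (.inv (.l 40))) (.inv (.l 41))) 3)))) (by decide +kernel)

end Cfsg.Lib.SzV
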