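import Cfsg.Agent.Lib.SzV.MF

/-!
# Products in `Aut L₃(4)`
-/

set_option autoImplicit false
set_option maxRecDepth 100000

namespace Cfsg.Lib.SzV

open Subgroup Cfsg.Lib.Calc Cfsg.Lib.T2 Cfsg.Lib.ONU

theorem f_e16 : ∀ x ∈ KK 3, x * x = 1 → x ∈ KK 2 ∨ (∀ v ∈ KK 2, v * x = x * v → v * v = 1 → v ≠ 1 → ∀ w ∈ KK 2, w * x = x * w → w * v = v * w → w * w = 1 → w ≠ 1 ∧ w ≠ v → ∀ p ∈ KK 3, p * x = x * p → p * v = v * p → p * w = w * p → p * p = 1 → ¬ (p ≠ 1 ∧ p ≠ x ∧ p ≠ v ∧ p ≠ x * v ∧ p ≠ w ∧ p ≠ x * w ∧ p ≠ v * w ∧ p ≠ x * v * w)) :=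
  HH (φ := .all 3 40 [] (.imp (.one (.mul (.l 40) (.l 40))) (.or (.mem 2 (.l 40)) (.all 2 41 [(.l 40, .l 40)] (.imp (.one (.mul (.l 41) (.l 41))) (.imp (.not (.one (.l 41))) (.all 2 42 [(.l 40, .l 40), (.l 41, .l 41)] (.imp (.one (.mul (.l 42) (.l 42))) (.imp (.and (.not (.one (.l 42))) (.not (.eq (.l 42) (.l 41)))) (.all 3 43 [(.l 40, .l 40), (.l 41, .l 41), (.l 42, .l 42)] (.imp (.one (.mul (.l 43) (.l 43))) (.not (.and (.not (.one (.l 43))) (.and (.not (.eq (.l 43) (.l 40))) (.and (.not (.eq (.l 43) (.l 41))) (.and (.not (.eq (.l 43) (.mul (.l 40) (.l 41)))) (.and (.not (.eq (.l 43) (.l 42))) (.and (.not (.eq (.l 43) (.mul (.l 40) (.l 42)))) (.and (.not (.eq (.l 43) (.mul (.l 41) (.l 42)))) (.not (.eq (.l 43) (.mul (.mul (.l 40) (.l 41)) (.l 42))))))))))))))))))))))) (by decide +kernel)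

theorem f_p1 : ∀ x ∈ KK 3, x * x * (x * x) = 1 → x * x ≠ 1 → ∀ v ∈ KK 3, v * x = x * v → v * v * (v * v) = 1 → v * v ≠ 1 → x * x ≠ v * v → ∀ w ∈ KK 3, w * x = x * w → w * v = v⁻¹ * w → ¬ True :=
  HH (φ := .all 3 40 [] (.imp (.one (.mul (.mul (.l 40) (.l 40)) (.mul (.l 40) (.l 40)))) (.imp (.not (.one (.mul (.l 40) (.l 40)))) (.all 3 41 [(.l 40, .l 40)] (.imp (.one (.mul (.mul (.l 41) (.l 41)) (.mul (.l 41) (.l 41)))) (.imp (.not (.one (.mul (.l 41) (.l 41)))) (.imp (.not (.eq (.mul (.l 40) (.l 40)) (.mul (.l 41) (.l 41)))) (.all 3 42 [(.l 40, .l 40), (.l 41, .inv (.l 41))] (.not (.tt)))))))))) (by decide +kernel)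

theorem f_p2 : ∀ x ∈ KK 3, x * x * (x * x) = 1 → x * x ≠ 1 → ∀ v ∈ KK 3, v * x = x * v → v * v = 1 → v ≠ 1 → x * x ≠ v → ∀ w ∈ KK 3, w * x = x * w → w * v = v * w → w * w = 1 → w ≠ 1 ∧ w ≠ v → x * x ≠ w ∧ x * x ≠ v * w → ∀ p ∈ KK 3, p * x = x⁻¹ * p → p * v = v * p → p * w = w * p → ¬ True :=
  HH (φ := .all 3 40 [] (.imp (.one (.mul (.mul (.l 40) (.l 40)) (.mul (.l 40) (.l 40)))) (.imp (.not (.one (.mul (.l 40) (.l 40)))) (.all 3 41 [(.l 40, .l 40)] (.imp (.one (.mul (.l 41) (.l 41))) (.imp (.not (.one (.l 41))) (.imp (.not (.eq (.mul (.l 40) (.l 40)) (.l 41))) (.all 3 42 [(.l 40, .l 40), (.l 41, .l 41)] (.imp (.one (.mul (.l 42) (.l 42))) (.imp (.and (.not (.one (.l 42))) (.not (.eq (.l 42) (.l 41)))) (.imp (.and (.not (.eq (.mul (.l 40) (.l 40)) (.l 42))) (.not (.eq (.mul (.l 40) (.l 40)) (.mul (.l 41) (.l 42))))) (.all 3 43 [(.l 40,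 .inv (.l 40)), (.l 41, .l 41), (.l 42, .l 42)] (.not (.tt)))))))))))))) (by decide +kernel)

end Cfsg.Lib.SzV
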