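import Cfsg.Agent.Lib.SzV.QA

/-! # Facts about `Aut 2^{1+6}_-` (generated) -/

set_option autoImplicit false
set_option maxRecDepth 100000

namespace Cfsg.Lib.SzV

open Cfsg.Lib.Calc Cfsg.Lib.T2

theorem qg0_ev : mQ.eval (.all 1 40 [] (.or (.one (.l 40)) (.or (.ex 4 41 [(.l 4, .l 40)] (.tt)) (.or (.ex 4 41 [(.mul (.l 5) (.l 6), .l 40)] (.tt)) (.ex 4 41 [(.mul (.l 3) (.l 5), .l 40)] (.tt)))))) = true := by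
  decide +kernel

theorem qg0 {G : Type*} [Group G] {γ : ℕ → G} (h : IsoW mQ.gam γ) :
    ∀ y ∈ genW γ (mQ.ws 1), y = 1 ∨ (∃ v ∈ genW γ (mQ.ws 4), v * γ 4 = y * v ∧ True) ∨ (∃ v ∈ genW γ (mQ.ws 4), v * (γ 5 * γ 6) = y * v ∧ True) ∨ (∃ v ∈ genW γ (mQ.ws 4), v * (γ 3 * γ 5) = y * v ∧ True) :=
  mQ_ok.transfer h qg0_ev

theorem qg1_ev : mQ.eval (.all 3 40 [] (.imp (.one (.mul (.l 40) (.l 40))) (.imp (.mem 2 (.l 40)) (.or (.mem 1 (.l 40)) (.or (.ex 2 41 [(.l 7, .l 40)] (.tt)) (.or (.ex 2 41 [(.mul (.mul (.mul (.mul (.mul (.mul (.l 1) (.l 11)) (.l 8)) (.l 10)) (.l 8)) (.l 11)) (.l 10), .l 40)] (.tt)) (.or (.ex 6 41 [(.l 11, .l 40)] (.tt)) (.or (.ex 6 41 [(.mul (.mul (.l 8) (.l 11)) (.l 8), .l 40)] (.tt)) (.ex 2 41 [(.mul (.mul (.mul (.mul (.mul (.l 11) (.l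 8)) (.l 10)) (.l 8)) (.l 11)) (.l 6), .l 40)] (.tt)))))))))) = true := by
  decide +kernel

theorem qg1 {G : Type*} [Group G] {γ : ℕ → G} (h : IsoW mQ.gam γ) :
    ∀ y ∈ genW γ (mQ.ws 3), y * y = 1 → y ∈ genW γ (mQ.ws 2) → y ∈ genW γ (mQ.ws 1) ∨ (∃ v ∈ genW γ (mQ.ws 2), v * γ 7 = y * v ∧ True) ∨ (∃ v ∈ genW γ (mQ.ws 2), v * (γ 1 * γ 11 * γ 8 * γ 10 * γ 8 * γ 11 * γ 10) = y * v ∧ True) ∨ (∃ v ∈ genW γ (mQ.ws 6), v * γ 11 = y * v ∧ True) ∨ (∃ v ∈ genW γ (mQ.ws 6), v * (γ 8 * γ 11 * γ 8) = y * v ∧ True) ∨ (∃ v ∈ genW γ (mQ.ws 2), v * (γ 11 * γ 8 * γ 10 * γ 8 * γ 11 * γ 6) = y * v ∧ True) :=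
  mQ_ok.transfer h qg1_ev

theorem qg3_ev : mQ.eval (.all 4 40 [] (.imp (.one (.pow (.l 40) 3)) (.or (.one (.l 40)) (.or (.lt 41 (.mul (.mul (.mul (.l 40) (.mul (.mul (.mul (.l 7) (.l 9)) (.l 11)) (.l 8))) (.inv (.l 40))) (.inv (.mul (.mul (.mul (.l 7) (.l 9)) (.l 11)) (.l 8)))) (.and (.mem 1 (.pow (.l 41) 4)) (.not (.mem 1 (.l 41))))) (.or (.lt 41 (.mul (.mul (.mul (.l 40) (.l 9)) (.inv (.l 40))) (.inv (.l 9))) (.and (.mem 1 (.pow (.l 41) 4)) (.not (.mem 1 (.l 41))))) (.or (.lt 41 (.mul (.mul (.mul (.l 40) (.mul (.l 8) (.l 9))) (.inv (.l 40))) (.inv (.mul (.l 8) (.l 9)))) (.and (.mem 1 (.pow (.l 41) 4)) (.not (.mem 1 (.l 41))))) (.lt 41 (.mul (.mul (.mul (.l 40) (.l 7)) (.inv (.l 40))) (.inv (.l 7))) (.and (.mem 1 (.pow (.l 41) 4)) (.not (.mem 1 (.l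 41))))))))))) = true := by
  decide +kernel

theorem qg3 {G : Type*} [Group G] {γ : ℕ → G} (h : IsoW mQ.gam γ) :
    ∀ y ∈ genW γ (mQ.ws 4), y ^ 3 = 1 → y = 1 ∨ (y * (γ 7 * γ 9 * γ 11 * γ 8) * y⁻¹ * (γ 7 * γ 9 * γ 11 * γ 8)⁻¹) ^ 4 ∈ genW γ (mQ.ws 1) ∧ y * (γ 7 * γ 9 * γ 11 * γ 8) * y⁻¹ * (γ 7 * γ 9 * γ 11 * γ 8)⁻¹ ∉ genW γ (mQ.ws 1) ∨ (y * γ 9 * y⁻¹ * (γ 9)⁻¹) ^ 4 ∈ genW γ (mQ.ws 1) ∧ y * γ 9 * y⁻¹ * (γ 9)⁻¹ ∉ genW γ (mQ.ws 1) ∨ (y * (γ 8 * γ 9) * y⁻¹ * (γ 8 * γ 9)⁻¹) ^ 4 ∈ genW γ (mQ.ws 1) ∧ y * (γ 8 * γ 9) * y⁻¹ * (γ 8 * γ 9)⁻¹ ∉ genW γ (mQ.ws 1) ∨ (y * γ 7 * y⁻¹ * (γ 7)⁻¹) ^ 4 ∈ genW γ (mQ.ws 1) ∧ y * γ 7 * y⁻¹ * (γ 7)⁻¹ ∉ genW γ (mQ.ws 1) :=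
  mQ_ok.transfer h qg3_ev

theorem qg5_ev : mQ.eval (.all 5 40 [] (.or (.one (.l 40)) (.lt 41 (.mul (.mul (.mul (.l 40) (.mul (.mul (.mul (.l 7) (.l 10)) (.l 7)) (.l 9))) (.inv (.l 40))) (.inv (.mul (.mul (.mul (.l 7) (.l 10)) (.l 7)) (.l 9)))) (.and (.mem 1 (.pow (.l 41) 4)) (.not (.mem 1 (.l 41))))))) = true := by
  decide +kernel

theorem qg5 {G : Type*} [Group G] {γ : ℕ → G} (h : IsoW mQ.gam γ) :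
    ∀ y ∈ genW γ (mQ.ws 5), y = 1 ∨ (y * (γ 7 * γ 10 * γ 7 * γ 9) * y⁻¹ * (γ 7 * γ 10 * γ 7 * γ 9)⁻¹) ^ 4 ∈ genW γ (mQ.ws 1) ∧ y * (γ 7 * γ 10 * γ 7 * γ 9) * y⁻¹ * (γ 7 * γ 10 * γ 7 * γ 9)⁻¹ ∉ genW γ (mQ.ws 1) :=
  mQ_ok.transfer h qg5_ev

theorem qgc5_ev : mQ.eval (.all 0 40 [(.l 1, .l 1), (.l 2, .l 2), (.l 3, .l 3), (.mul (.l 5) (.l 4), .mul (.l 5) (.l 4)), (.mul (.l 6) (.l 4), .mul (.l 6) (.l 4))] (.mem 1 (.l 40))) = true := by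
  decide +kernel

theorem qgc5 {G : Type*} [Group G] {γ : ℕ → G} (h : IsoW mQ.gam γ) :
    ∀ y ∈ genW γ (mQ.ws 0), y * γ 1 = γ 1 * y → y * γ 2 = γ 2 * y → y * γ 3 = γ 3 * y → y * (γ 5 * γ 4) = γ 5 * γ 4 * y → y * (γ 6 * γ 4) = γ 6 * γ 4 * y → y ∈ genW γ (mQ.ws 1) :=
  mQ_ok.transfer h qgc5_ev

theorem qgc4_ev : mQ.eval (.all 0 40 [(.mul (.l 2) (.l 3), .mul (.l 2) (.l 3)), (.l 3, .l 3), (.mul (.l 5) (.l 4), .mul (.l 5) (.l 4)), (.mul (.l 6) (.l 4), .mul (.l 6) (.l 4))] (.or (.mem 1 (.l 40)) (.mem 1 (.mul (.l 40) (.l 11))))) = true := by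
  decide +kernel

theorem qgc4 {G : Type*} [Group G] {γ : ℕ → G} (h : IsoW mQ.gam γ) :
    ∀ y ∈ genW γ (mQ.ws 0), y * (γ 2 * γ 3) = γ 2 * γ 3 * y → y * γ 3 = γ 3 * y → y * (γ 5 * γ 4) = γ 5 * γ 4 * y → y * (γ 6 * γ 4) = γ 6 * γ 4 * y → y ∈ genW γ (mQ.ws 1) ∨ y * γ 11 ∈ genW γ (mQ.ws 1) :=
  mQ_ok.transfer h qgc4_ev

end Cfsg.Lib.SzV
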