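import Cfsg.Agent.Lib.SzV.QA

/-! # Facts about `Aut 2^{1+6}_-` (generated) -/

set_option autoImplicit false
set_option maxRecDepth 100000

namespace Cfsg.Lib.SzV

open Cfsg.Lib.Calc Cfsg.Lib.T2

theorem qg2_ev : mQ.eval (.all 3 40 [] (.imp (.one (.mul (.l 40) (.l 40))) (.or (.mem 2 (.l 40)) (.or (.ex 2 41 [(.mul (.mul (.mul (.mul (.mul (.l 7) (.l 8)) (.l 9)) (.l 11)) (.l 8)) (.l 12), .l 40)] (.tt)) (.or (.ex 2 41 [(.mul (.mul (.mul (.mul (.mul (.mul (.mul (.mul (.mul (.mul (.mul (.l 9) (.l 10)) (.l 8)) (.l 7)) (.l 10)) (.l 8)) (.l 7)) (.l 9)) (.l 11)) (.l 8)) (.l 10)) (.l 12), .l 40)] (.tt)) (.ex 2 41 [(.mul (.mul (.mul (.mul (.mul (.mul (.mul (.mul (.mul (.mul (.l 6) (.l 10)) (.l 11)) (.l 8)) (.l 11)) (.l 10)) (.l 7)) (.l 9)) (.l 8)) (.l 11)) (.l 12), .l 40)] (.tt))))))) = true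 := by
  decide +kernel

theorem qg2 {G : Type*} [Group G] {γ : ℕ → G} (h : IsoW mQ.gam γ) :
    ∀ y ∈ genW γ (mQ.ws 3), y * y = 1 → y ∈ genW γ (mQ.ws 2) ∨ (∃ v ∈ genW γ (mQ.ws 2), v * (γ 7 * γ 8 * γ 9 * γ 11 * γ 8 * γ 12) = y * v ∧ True) ∨ (∃ v ∈ genW γ (mQ.ws 2), v * (γ 9 * γ 10 * γ 8 * γ 7 * γ 10 * γ 8 * γ 7 * γ 9 * γ 11 * γ 8 * γ 10 * γ 12) = y * v ∧ True) ∨ (∃ v ∈ genW γ (mQ.ws 2), v * (γ 6 * γ 10 * γ 11 * γ 8 * γ 11 * γ 10 * γ 7 * γ 9 * γ 8 * γ 11 * γ 12) = y * v ∧ True) :=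
  mQ_ok.transfer h qg2_ev

end Cfsg.Lib.SzV
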