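import Cfsg.Agent.Lib.SzV.QA

/-! # Facts about `Aut 2^{1+6}_-` (generated) -/

set_option autoImplicit false
set_option maxRecDepth 100000

namespace Cfsg.Lib.SzV

open Cfsg.Lib.Calc Cfsg.Lib.T2

theorem qg4_ev : mQ.eval (.all 3 40 [] (.imp (.mem 1 (.mul (.l 40) (.l 40))) (.ex 1 41 [] (.one (.mul (.mul (.l 40) (.l 41)) (.mul (.l 40) (.l 41))))))) = true := by
  decide +kernel

theorem qg4 {G : Type*} [Group G] {γ : ℕ → G} (h : IsoW mQ.gam γ) :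
    ∀ y ∈ genW γ (mQ.ws 3), y * y ∈ genW γ (mQ.ws 1) → ∃ q ∈ genW γ (mQ.ws 1), y * q * (y * q) = 1 :=
  mQ_ok.transfer h qg4_ev

end Cfsg.Lib.SzV
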